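import Mathlib
import Cfsg.Agent.ChevalleyStructure.SL2Hom

/-!
# Elements acting on a subgroup `SL₂(F)` through `GL₂(F)` (S4546, X2b)

* `NQ Q` : the subgroup of the elements acting on `Q : SL(2, F) →* Y` as an element of `GL₂(F)`;
* `NQ.scal` : elements acting by scalars on both root groups lie in `NQ Q`.
-/

set_option autoImplicit false
set_option linter.unusedSectionVars false
set_option maxHeartbeats 400000

namespace Cfsg.Agent.H482.KKL

open Cfsg.Agent.ChevalleyStructure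
open Cfsg.Agent.ChevalleyStructure.SL2Hom (up lo)
open scoped MatrixGroups

section Act

variable {F : Type*} [Field F] {Y : Type*} [Group Y]

/-- conjugation by an element of `GL₂` -/
def cgl (g : GL (Fin 2) F) (s : SL(2, F)) : SL(2, F) :=
  ⟨g.1 * s.1 * (g⁻¹ : GL (Fin 2) F).1, by
    have h : (g.1).det * ((g⁻¹ : GL (Fin 2) F).1).det = 1 := by
      rw [← Matrix.det_mul, ← Units.val_mul, mul_inv_cancel, Units.val_one, Matrix.det_one]
    rw [Matrix.det_mul, Matrix.det_mul, s.2, mul_one, h]⟩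

theorem cgl_mul (g h : GL (Fin 2) F) (s : SL(2, F)) : cgl (g * h) s = cgl g (cgl h s) := by
  apply Subtype.ext
  show (g * h).1 * s.1 * ((g * h)⁻¹).1 = g.1 * (h.1 * s.1 * (h⁻¹).1) * (g⁻¹).1
  rw [mul_inv_rev, Units.val_mul, Units.val_mul]
  simp only [mul_assoc]

theorem cgl_one (s : SL(2, F)) : cgl 1 s = s := by
  apply Subtype.ext
  show (1 : Matrix (Fin 2) (Fin 2) F) * s.1 * ((1 : GL (Fin 2) F)⁻¹).1 = s.1
  rw [inv_one, Units.val_one, one_mul, mul_one]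

theorem cgl_coe (t s : SL(2, F)) : cgl (t : GL (Fin 2) F) s = t * s * t⁻¹ := by
  apply Subtype.ext
  rfl

/-- the elements acting on `Q` through `GL₂` -/
def NQ (Q : SL(2, F) →* Y) : Subgroup Y where
  carrier := {c | ∃ g : GL (Fin 2) F, ∀ s, c * Q s * c⁻¹ = Q (cgl g s)}
  mul_mem' := by
    rintro a b ⟨g, hg⟩ ⟨h, hh⟩
    refine ⟨g * h, fun s => ?_⟩
    rw [cgl_mul, ← hg, ← hh]
    group
  one_mem' := ⟨1, fun s => by rw [cgl_one]; group⟩
  inv_mem' := by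
    rintro a ⟨g, hg⟩
    refine ⟨g⁻¹, fun s => ?_⟩
    have h1 := hg (cgl g⁻¹ s)
    rw [← cgl_mul, mul_inv_cancel, cgl_one] at h1
    rw [← h1]
    group

theorem NQ.range (Q : SL(2, F) →* Y) : Q.range ≤ NQ Q := by
  rintro _ ⟨t, rfl⟩
  refine ⟨(t : GL (Fin 2) F), fun s => ?_⟩
  rw [cgl_coe, map_mul, map_mul, map_inv]

theorem NQ.cent {Q : SL(2, F) →* Y} {c : Y} (h : ∀ s, c * Q s = Q s * c) : c ∈ NQ Q :=
  ⟨1, fun s => by rw [cgl_one, h, mul_inv_cancel_right]⟩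

/-- `diag (a, 1)` -/
def dgl (a : Fˣ) : GL (Fin 2) F where
  val := !![(a : F), 0; 0, 1]
  inv := !![((a⁻¹ : Fˣ) : F), 0; 0, 1]
  val_inv := by
    ext i j
    fin_cases i <;> fin_cases j <;> simp [Matrix.mul_apply, Fin.sum_univ_two]
  inv_val := by
    ext i j
    fin_cases i <;> fin_cases j <;> simp [Matrix.mul_apply, Fin.sum_univ_two]

theorem cgl_dgl_up (a : Fˣ) (r : F) : cgl (dgl a) (up r) = up (a * r) := by
  apply Subtype.ext
  show !![(a : F), 0; 0, 1] * !![1, r; 0, 1] * !![((a⁻¹ : Fˣ) : F), 0; 0, 1] = !![1, (a : F) * r; 0, 1]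
  ext i j
  fin_cases i <;> fin_cases j <;> simp [Matrix.mul_apply, Fin.sum_univ_two]

theorem cgl_dgl_lo (a : Fˣ) (r : F) : cgl (dgl a) (lo r) = lo ((a : F)⁻¹ * r) := by
  apply Subtype.ext
  show !![(a : F), 0; 0, 1] * !![1, 0; r, 1] * !![((a⁻¹ : Fˣ) : F), 0; 0, 1] = !![1, 0; (a : F)⁻¹ * r, 1]
  ext i j
  fin_cases i <;> fin_cases j <;> simp [Matrix.mul_apply, Fin.sum_univ_two, mul_comm]

theorem hom_ext2 {f g : SL(2, F) →* Y} (h1 : ∀ a, f (up a) = g (up a)) (h2 : ∀ a, f (lo a) = g (lo a)) : f = g := by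
  have h3 : (⊤ : Subgroup SL(2, F)) ≤ MonoidHom.eqLocus f g := by
    intro s _
    have h4 := SL2Hom.mem_closure_SL2 s
    refine (Subgroup.closure_le _).2 ?_ h4
    rintro y (⟨t, rfl⟩ | ⟨t, rfl⟩)
    · exact h1 t
    · exact h2 t
  exact MonoidHom.ext fun s => h3 (Subgroup.mem_top s)

/-- conjugation by `g` as a homomorphism -/
def cglHom (g : GL (Fin 2) F) : SL(2, F) →* SL(2, F) := MonoidHom.mk' (cgl g) fun s t => by
  apply Subtype.ext
  show g.1 * (s.1 * t.1) * (g⁻¹).1 = (g.1 * s.1 * (g⁻¹).1) * (g.1 * t.1 * (g⁻¹).1)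
  have h : (g⁻¹ : GL (Fin 2) F).1 * g.1 = 1 := by rw [← Units.val_mul, inv_mul_cancel, Units.val_one]
  calc g.1 * (s.1 * t.1) * (g⁻¹).1 = g.1 * s.1 * (1 * t.1) * (g⁻¹).1 := by rw [one_mul]; simp only [mul_assoc]
    _ = g.1 * s.1 * ((g⁻¹).1 * g.1 * t.1) * (g⁻¹).1 := by rw [h]
    _ = _ := by simp only [mul_assoc]

theorem scal_inv (h2 : (2 : F) ≠ 0) {Q : SL(2, F) →* Y} (hQ : Function.Injective Q) {c : Y} {a b : F} (ha : a ≠ 0)
    (h1 : ∀ r, c * Q (up r) * c⁻¹ = Q (up (a * r))) (h3 : ∀ r, c * Q (lo r) * c⁻¹ = Q (lo (b * r))) : b = a⁻¹ := by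
  have hb : b ≠ 0 := by
    rintro rfl
    have e1 := h3 1
    have e0 : lo (0 : F) = 1 := by
      apply Subtype.ext
      show !![1, 0; 0, 1] = (1 : Matrix (Fin 2) (Fin 2) F)
      exact Matrix.one_fin_two.symm
    rw [zero_mul, e0, map_one, mul_inv_eq_one, mul_eq_left] at e1
    have e2 : lo (1 : F) = 1 := hQ (by rw [e1, map_one])
    have e3 := congrArg (fun s : SL(2, F) => s.1 1 0) e2
    have e4 : (1 : F) = 0 := e3
    exact one_ne_zero e4
  -- the image of `w = up 1 * lo (-1) * up 1`, `w² = -1`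
  have e1 : c * Q (up 1 * lo (-1) * up 1) * c⁻¹ = Q (up a * lo (-b) * up a) := by
    have h4 := h1 1
    have h5 := h3 (-1)
    rw [mul_one] at h4
    rw [mul_neg, mul_one] at h5
    rw [map_mul, map_mul, map_mul, map_mul, ← h4, ← h5]
    group
  have e2 : (up (1 : F) * lo (-1) * up 1) * (up 1 * lo (-1) * up 1) = -1 := by
    apply Subtype.ext
    show (!![1, 1; 0, 1] * !![1, 0; -1, 1] * !![1, 1; 0, 1]) * (!![1, 1; 0, 1] * !![1, 0; -1, 1] * !![1, 1; 0, 1]) =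
      ((-1 : SL(2, F)) : Matrix (Fin 2) (Fin 2) F)
    ext i j
    fin_cases i <;> fin_cases j <;> simp [Matrix.mul_apply, Fin.sum_univ_two]
  have e3 : ∀ s : SL(2, F), (-1 : SL(2, F)) * s = s * (-1) := fun s => by rw [neg_one_mul, mul_neg_one]
  obtain ⟨w, hw⟩ : ∃ w, w = (up (1 : F) * lo (-1) * up 1) := ⟨_, rfl⟩
  obtain ⟨m, hm⟩ : ∃ m, m = (up a * lo (-b) * up a) := ⟨_, rfl⟩
  rw [← hw] at e1 e2
  rw [← hm] at e1
  have e4 : (m * m) * up 1 = up 1 * (m * m) := by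
    apply hQ
    have h5 : Q (up 1) = c * Q (up (a⁻¹ * 1)) * c⁻¹ := by
      rw [h1, mul_inv_cancel_left₀ ha]
    rw [map_mul, map_mul Q (up 1), map_mul Q m, ← e1, h5]
    calc c * Q w * c⁻¹ * (c * Q w * c⁻¹) * (c * Q (up (a⁻¹ * 1)) * c⁻¹)
        = c * (Q w * Q w * Q (up (a⁻¹ * 1))) * c⁻¹ := by group
      _ = c * (Q (up (a⁻¹ * 1)) * (Q w * Q w)) * c⁻¹ := by
          rw [← map_mul, ← map_mul, ← map_mul, e2, e3]
      _ = _ := by group
  have key : m.1 = !![1 - a * b, a + (1 - a * b) * a; -b, 1 - a * b] := by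
    rw [hm]
    show !![1, a; 0, 1] * !![1, 0; -b, 1] * !![1, a; 0, 1] = _
    ext i j
    fin_cases i <;> fin_cases j <;> simp [Matrix.mul_apply, Fin.sum_univ_two] <;> ring
  have key2 : (m.1 * m.1) 1 0 = -b * (1 - a * b) * 2 := by
    rw [key]
    simp [Matrix.mul_apply, Fin.sum_univ_two]
    ring
  have e5 := congrArg (fun s : SL(2, F) => s.1 0 0) e4
  have e6 : ((m.1 * m.1 : Matrix (Fin 2) (Fin 2) F) * (!![1, 1; 0, 1] : Matrix (Fin 2) (Fin 2) F)) 0 0 =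
      ((!![1, 1; 0, 1] : Matrix (Fin 2) (Fin 2) F) * (m.1 * m.1 : Matrix (Fin 2) (Fin 2) F)) 0 0 := e5
  obtain ⟨N, hN⟩ : ∃ N : Matrix (Fin 2) (Fin 2) F, N = m.1 * m.1 := ⟨_, rfl⟩
  have e7 : (m.1 * m.1 : Matrix (Fin 2) (Fin 2) F) 1 0 = 0 := by
    rw [← hN] at e6 ⊢
    rw [Matrix.mul_apply, Matrix.mul_apply, Fin.sum_univ_two, Fin.sum_univ_two] at e6
    simpa using e6
  rw [key2] at e7
  have e8 : 1 - a * b = 0 := by
    rcases mul_eq_zero.1 e7 with h | h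
    · rcases mul_eq_zero.1 h with h | h
      · exact absurd (neg_eq_zero.1 h) hb
      · exact h
    · exact absurd h h2
  exact eq_inv_of_mul_eq_one_right (by linear_combination -e8)

/-- an element acting by scalars on the root elements -/
theorem NQ.scal (h2 : (2 : F) ≠ 0) {Q : SL(2, F) →* Y} (hQ : Function.Injective Q) {c : Y} {a b : F} (ha : a ≠ 0)
    (h1 : ∀ r, c * Q (up r) * c⁻¹ = Q (up (a * r))) (h3 : ∀ r, c * Q (lo r) * c⁻¹ = Q (lo (b * r))) : c ∈ NQ Q := by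
  have hb := scal_inv h2 hQ ha h1 h3
  refine ⟨dgl (Units.mk0 a ha), fun s => ?_⟩
  have h4 : (MulAut.conj c).toMonoidHom.comp Q = Q.comp (cglHom (dgl (Units.mk0 a ha))) := by
    refine hom_ext2 (fun r => ?_) fun r => ?_
    · show c * Q (up r) * c⁻¹ = Q (cgl (dgl (Units.mk0 a ha)) (up r))
      rw [h1, cgl_dgl_up]
      rfl
    · show c * Q (lo r) * c⁻¹ = Q (cgl (dgl (Units.mk0 a ha)) (lo r))
      rw [h3, cgl_dgl_lo, hb]
      rfl
  exact DFunLike.congr_fun h4 s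

end Act

end Cfsg.Agent.H482.KKL
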