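import Cfsg.Agent.UGT.U2.FOne.TwESixEnd

/-!
# `²E₆(q)`, `q` odd: the centralizer of the classical involution acts on the fundamental `SL₂(q)` through `GL₂(q)` (S4546, X2b)

* `act_long` : the representatives of the Weyl group act on the long root groups by scalars;
* `cent_act` : every `c` commuting with `ζ = Q(-1)`, `Q : SL₂(q) → ²E₆(q)` of the long node `0`, acts on `Q` as an element of
  `GL₂(q)`.
-/

set_option autoImplicit false
set_option linter.unusedSectionVars false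
set_option maxHeartbeats 400000

namespace Cfsg.Agent.H482.KKL.TwE

open CoxeterSystem Cfsg.Agent.ChevalleyStructure.CoxeterGeom Cfsg.Agent.Tits.Roots Cfsg.Agent.Tits.Core
  Cfsg.Agent.Tits.RootComb Cfsg.Agent.Nodes.Comb Cfsg.Agent.Nodes.Reps Cfsg.Agent.Nodes.BNOf
  Cfsg.Agent.Nodes.RGDTwGen Cfsg.Agent.Nodes.RGDChev Cfsg.Agent.Nodes.RGDFold
  Cfsg.Agent.Nodes.RGDFoldSL Cfsg.Agent.Nodes.RGDTwE6 Cfsg.Agent.Nodes.RGDTwTab Cfsg.Agent.Nodes.RGDTwCoordE6
  Cfsg.Agent.Nodes.RGDTwCoord Cfsg.Agent.Nodes.RGDTwComE6 Cfsg.Agent.Nodes.RGDTwActE6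
  Cfsg.Agent.Nodes.RGDLib Cfsg.Agent.Nodes.SubComb Cfsg.Agent.Nodes.Sub Cfsg.Agent.Nodes.Bruhat
open Cfsg.Lie Cfsg.Agent.ChevalleyStructure
  Cfsg.Agent.ChevalleyStructure.TwistedU Cfsg.Agent.ChevalleyStructure.TwistedFix
open Cfsg.Agent.ChevalleyStructure.SL2Hom (up lo)
open Cfsg.Agent.KFacts.TwESix.Comb (bf rts mem_rts bf_rep rho rho_root bf_rho pairing_eq)
open Cfsg.Agent.Nodes.RGDTwNode.E6 (nodeOK eps_one rest)
open Cfsg.Agent.UGT.U2.FOne Cfsg.Agent.UGT.U2.FOne.TwESix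
open scoped commutatorElement MatrixGroups

universe u

local notation "cl" => Cfsg.Agent.Nodes.RGDTwCoord.cl chevE6 J O

variable {K : Type u} [Field K] [Fintype K] {q : ℕ} {φ : K →+* K} (hφ : ∀ x, φ x = x ^ q)
  (hqq : ∀ t : K, (t ^ q) ^ q = t) {W : Type*} [Group W] {cs : CoxeterSystem CoxeterMatrix.F₄ W} {z w : Fin 4 → ℤ}

set_option maxRecDepth 20000 in
theorem tab_lg : ∀ x ∈ rts, bf x x = 4 → Lg x := by decide +kernel

theorem lg_of (hz : IsRoot cs isCartan z) (hl : bf z z = 4) : Lg z := tab_lg z ((mem_rts cs).1 hz) hl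

include hφ hqq in
theorem act_aux (p : ℕ) [Fact p.Prime] [CharP K p] (v : W) : ∃ k, Rp cs (rgd cs hφ hqq p).nsys v k ∧
    ∀ z, IsRoot cs isCartan z → bf z z = 4 → ∃ c : K, c ≠ 0 ∧ φ c = c ∧ ∀ a, φ a = a →
      k * x φ q z a * k⁻¹ = x φ q (rep cs isCartan v z) (c * a) := by
  induction v using cs.simple_induction_left with
  | one =>
    refine ⟨1, rp_one, fun z hz hl => ⟨1, one_ne_zero, map_one φ, fun a ha => ?_⟩⟩
    rw [map_one, Module.End.one_apply, one_mul, inv_one, mul_one, one_mul]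
  | mul_simple_left v i ih =>
    obtain ⟨k, hk, h⟩ := ih
    refine ⟨nn hφ i * k, (rp_simple cs (rgd cs hφ hqq p).nsys i).mul hk, fun z hz hl => ?_⟩
    obtain ⟨c, hc, hc', h1⟩ := h z hz hl
    have hvz : IsRoot cs isCartan (rep cs isCartan v z) := hz.act v
    have hvl : bf (rep cs isCartan v z) (rep cs isCartan v z) = 4 := by rw [bf_rep, hl]
    have hLg := lg_of hvz hvl
    obtain ⟨η, h2, h3⟩ := conj_nn hφ hqq hvz i
    have hη : η ≠ 0 ∧ φ η = η := by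
      rcases h2 with rfl | rfl
      · exact ⟨one_ne_zero, map_one φ⟩
      · exact ⟨neg_ne_zero.2 one_ne_zero, by rw [map_neg, map_one]⟩
    refine ⟨η * c, mul_ne_zero hη.1 hc, by rw [map_mul, hη.2, hc'], fun a ha => ?_⟩
    have h4 := (h3 (c * a) (ok_long hvz hLg (by rw [map_mul, hc', ha]))).2
    rw [if_neg (fun h => not_both hLg h.1)] at h4
    calc nn hφ i * k * x φ q z a * (nn hφ i * k)⁻¹ = nn hφ i * (k * x φ q z a * k⁻¹) * (nn hφ i)⁻¹ := by group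
      _ = x φ q (rep cs isCartan (cs.simple i) (rep cs isCartan v z)) (η * (c * a)) := by rw [h1 a ha, h4]
      _ = _ := by rw [← rep_mul_apply, mul_assoc]

include hφ hqq in
/-- **The representatives act on the long root groups by scalars.** -/
theorem act_long (p : ℕ) [Fact p.Prime] [CharP K p] {v : W} {k : ↥(twistedE6 K q)}
    (hk : Rp cs (rgd cs hφ hqq p).nsys v k) (hz : IsRoot cs isCartan z) (hl : bf z z = 4) :
    ∃ c : K, c ≠ 0 ∧ φ c = c ∧ ∀ a, φ a = a → k * x φ q z a * k⁻¹ = x φ q (rep cs isCartan v z) (c * a) := by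
  obtain ⟨k₀, hk₀, h⟩ := act_aux (cs := cs) hφ hqq p v
  obtain ⟨c, hc, hc', h1⟩ := h z hz hl
  have ht : k₀⁻¹ * k ∈ T K q := hk₀.unique hk
  obtain ⟨χ, h2, h3, h4⟩ := conj_T hφ hqq hz ht
  have hLg := lg_of hz hl
  have h3' : φ χ = χ := (ok_iff_long hz hLg).1 h3
  refine ⟨c * χ, mul_ne_zero hc h2, by rw [map_mul, hc', h3'], fun a ha => ?_⟩
  calc k * x φ q z a * k⁻¹ = k₀ * (k₀⁻¹ * k * x φ q z a * (k₀⁻¹ * k)⁻¹) * k₀⁻¹ := by group
    _ = x φ q (rep cs isCartan v z) (c * (χ * a)) := by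
      rw [h4 a (ok_long hz hLg ha), h1 (χ * a) (by rw [map_mul, h3', ha])]
    _ = _ := by rw [mul_assoc]

/-! ### The fundamental subgroup of the node `0` -/

theorem cl_zero : cl (sr 0) = [46] := by decide +kernel

theorem sr_long : bf (sr 0) (sr 0) = 4 := by decide +kernel

include hφ hqq in
theorem P_up (a : Fq φ) : P hφ hqq 0 (up a) = x φ q (sr 0) (a : K) := by
  apply Subtype.ext
  have hr := isRoot_sr CoxeterMatrix.F₄.toCoxeterSystem isCartan (0 : Fin 4)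
  have ha : φ (a : K) = (a : K) := a.2
  rw [coe_x hφ hqq hr (ok_long hr (lg_of hr sr_long) ha)]
  have h1 : ((P hφ hqq 0 (up a) : ↥(twistedE6 K q)) : GL chevE6.Idx K) =
      yv (Elts.xG hp.inList) φ (Cfsg.Agent.Nodes.RGDTwNode.E6.rep 0 :: rest 0) (a : K) :=
    coe_Phi_up (foldGrp hφ hqq) (nodeOK 0) (hf 0) a
  rw [h1]
  unfold Y
  rw [cl_zero]
  show yv (Elts.xG hp.inList) φ [46] (a : K) = yv (xs hp dl) φ [46] (a : K)
  unfold yv xs
  have : ((dl 46 : ℤ) : K) = 1 := by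
    have : dl 46 = 1 := by decide +kernel
    rw [this, Int.cast_one]
  rw [this, one_mul]
  rfl

theorem wS_up {F : Type*} [Field F] (a : F) : (wS 1 * up a * (wS 1)⁻¹ : SL(2, F)) = lo (-a) := by
  rw [mul_inv_eq_iff_eq_mul]
  apply Subtype.ext
  show ((wS 1 : SL(2, F)) : Matrix (Fin 2) (Fin 2) F) * !![1, a; 0, 1] =
    !![1, 0; -a, 1] * ((wS 1 : SL(2, F)) : Matrix (Fin 2) (Fin 2) F)
  rw [coe_wS one_ne_zero]
  ext i j
  fin_cases i <;> fin_cases j <;> simp [Matrix.mul_apply, Fin.sum_univ_two]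

theorem neg_sr_root : IsRoot CoxeterMatrix.F₄.toCoxeterSystem isCartan (-sr (0 : Fin 4)) :=
  (isRoot_sr CoxeterMatrix.F₄.toCoxeterSystem isCartan (0 : Fin 4)).neg

theorem neg_sr_long : bf (-sr 0) (-sr 0) = 4 := by decide +kernel

include hφ hqq in
theorem P_lo : ∃ η : K, Sg η ∧ ∀ a : Fq φ, P hφ hqq 0 (lo a) = x φ q (-sr 0) (η * (a : K)) := by
  have hr := isRoot_sr CoxeterMatrix.F₄.toCoxeterSystem isCartan (0 : Fin 4)
  obtain ⟨η, h1, h2⟩ := conj_nn hφ hqq hr 0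
  refine ⟨η * (-1), h1.mul (Or.inr rfl), fun a => ?_⟩
  have hb : φ ((-a : Fq φ) : K) = ((-a : Fq φ) : K) := (-a).2
  have h3 := (h2 ((-a : Fq φ) : K) (ok_long hr (lg_of hr sr_long) hb)).2
  rw [if_neg (fun h => not_both (lg_of hr sr_long) h.1), rep_simple_sr, ← P_up hφ hqq, ← P_wS hφ hqq 0, ← map_inv,
    ← map_mul, ← map_mul, wS_up, neg_neg] at h3
  rw [h3]
  congr 1
  rw [Subfield.coe_neg]
  ring

end Cfsg.Agent.H482.KKL.TwE
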