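import Cfsg.Agent.H482.KKL.TwAct
import Cfsg.Agent.H482.KKL.ActGL

/-!
# `²E₆(q)`, `q` odd: `cent_act` (S4546, X2b)

Every `c` commuting with `ζ = Q(-1)`, `Q = P 0 : SL₂(q) → ²E₆(q)`, acts on `Q` as an element of `GL₂(q)`.
-/

set_option autoImplicit false
set_option linter.unusedSectionVars false
set_option maxHeartbeats 400000

namespace Cfsg.Agent.H482.KKL.TwE

open CoxeterSystem Cfsg.Agent.ChevalleyStructure.CoxeterGeom Cfsg.Agent.Tits.Roots Cfsg.Agent.Tits.Core
  Cfsg.Agent.Tits.RootComb Cfsg.Agent.Nodes.Comb Cfsg.Agent.Nodes.Reps Cfsg.Agent.Nodes.BNOf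
  Cfsg.Agent.Nodes.RGDTwGen Cfsg.Agent.Nodes.RGDChev Cfsg.Agent.Nodes.RGDFold
  Cfsg.Agent.Nodes.RGDFoldSL Cfsg.Agent.Nodes.RGDTwE6 Cfsg.Agent.Nodes.RGDTwTab Cfsg.Agent.Nodes.RGDTwCoordE6
  Cfsg.Agent.Nodes.RGDTwCoord Cfsg.Agent.Nodes.RGDTwComE6 Cfsg.Agent.Nodes.RGDTwActE6
  Cfsg.Agent.Nodes.RGDLib Cfsg.Agent.Nodes.SubComb Cfsg.Agent.Nodes.Sub Cfsg.Agent.Nodes.Bruhat
open Cfsg.Lie Cfsg.Agent.ChevalleyStructure
  Cfsg.Agent.ChevalleyStructure.TwistedU Cfsg.Agent.ChevalleyStructure.TwistedFix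
open Cfsg.Agent.ChevalleyStructure.SL2Hom (up lo)
open Cfsg.Agent.KFacts.TwESix.Comb (bf rts mem_rts bf_rep rho rho_root bf_rho pairing_eq)
open Cfsg.Agent.Nodes.RGDTwNode.E6 (nodeOK eps_one rest)
open Cfsg.Agent.UGT.U2.FOne Cfsg.Agent.UGT.U2.FOne.TwESix
open scoped commutatorElement MatrixGroups

universe u

section Gen

variable {I W Y : Type*} [Fintype I] [DecidableEq I] [Group W] [Group Y] {M : CoxeterMatrix I}
  {cs : CoxeterSystem M W} {A : I → I → ℤ} {h : IsCartan M A} {p : ℕ} {T : Subgroup Y} {n : I → Y}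
  {X : (I → ℤ) → Subgroup Y} [Finite W]

/-- the centralizer of an element of the torus is generated by elements of the root groups and of `N` -/
theorem centralizer_le (R : RGD cs h p T n X) {z : Y} (hz : z ∈ T) (hG : GG cs h T X = ⊤) {H : Subgroup Y}
    (hX : ∀ x, IsRoot cs h x → ∀ u ∈ X x, u * z = z * u → u ∈ H)
    (hN : ∀ w k, Rp cs R.nsys w k → k * z = z * k → k ∈ H) {g : Y} (hg : g * z = z * g) : g ∈ H := by
  have hg' : g ∈ Subgroup.centralizer ({z} : Set Y) := by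
    rw [Subgroup.mem_centralizer_iff]
    rintro _ rfl
    exact hg.symm
  obtain ⟨u, hu, w, k, hk, hkz, v, hv, rfl⟩ := Cfsg.Agent.Nodes.NormalForm.mem_centralizer R
    (Set.singleton_subset_iff.2 hz) (by rw [hG]; trivial) hg'
  have h1 : RGD.Sup (fun x => X x ⊓ Subgroup.centralizer ({z} : Set Y)) (RGD.Pos cs h) ≤ H := by
    refine RGD.Sup_le fun x hx u hu => ?_
    exact hX x hx.1 u hu.1 (Subgroup.mem_centralizer_iff.1 hu.2 z rfl).symm
  exact mul_mem (mul_mem (h1 hu) (hN w k hk (Subgroup.mem_centralizer_iff.1 hkz z rfl).symm)) (h1 hv)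

end Gen

variable {K : Type u} [Field K] [Fintype K] {q : ℕ} {φ : K →+* K} (hφ : ∀ x, φ x = x ^ q)
  (hqq : ∀ t : K, (t ^ q) ^ q = t) {z w : Fin 4 → ℤ}

local notation "CS" => CoxeterMatrix.F₄.toCoxeterSystem

include hφ hqq in
/-- **The centralizer of the involution acts on the fundamental `SL₂(q)` through `GL₂(q)`.** -/
theorem cent_act (p : ℕ) [Fact p.Prime] [CharP K p] (h2K : (2 : K) ≠ 0) {c : ↥(twistedE6 K q)}
    (hc : c * zn hφ hqq 0 = zn hφ hqq 0 * c) : c ∈ NQ (P hφ hqq 0) := by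
  have : Finite CoxeterMatrix.F₄.Group := Cfsg.Agent.KFacts.TwESix.Comb.finiteW CS
  have H : Inv CS φ q (sr 0) (zn hφ hqq 0) := inv_zn hφ hqq h2K
  have hr : sr 0 ∈ [sr 0, rho] := by simp
  have hrr := isRoot_sr CS isCartan (0 : Fin 4)
  refine centralizer_le (rgd CS hφ hqq p) (zn_mem hφ hqq 0) (GG_top φ hφ hqq) ?_ ?_ hc
  · intro z hz u hu hc
    by_cases hev : bf z (sr 0) % 4 = 0
    · rcases ((tab_long _ hr).2 z ((mem_rts CS).1 hz)).1 hev with rfl | rfl | h0
      · obtain ⟨a, rfl⟩ := (mem_X_sr hφ hqq 0).1 hu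
        exact NQ.range _ ⟨_, rfl⟩
      · obtain ⟨a, rfl⟩ := (mem_X_neg hφ hqq 0).1 hu
        exact NQ.range _ ⟨_, rfl⟩
      · obtain ⟨h1, h2, h3, h4⟩ := ((tab_long _ hr).2 z ((mem_rts CS).1 hz)).2 h0
        have h5 : RA (X φ q) (sr 0) ≤ Subgroup.centralizer ({u} : Set ↥(twistedE6 K q)) := by
          refine sup_le ?_ ?_
          · intro v hv
            rw [Subgroup.mem_centralizer_iff]
            rintro _ rfl
            exact commute_X hφ hqq hz hrr h1 (fun h => h4 (by rw [h, neg_neg])) _ hu _ hv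
          · intro v hv
            rw [Subgroup.mem_centralizer_iff]
            rintro _ rfl
            exact commute_X hφ hqq hz hrr.neg (by rw [← sub_eq_add_neg]; exact h2)
              (fun h => h3 (neg_injective h).symm) _ hu _ hv
        refine NQ.cent fun s => ?_
        have h6 : P hφ hqq 0 s ∈ RA (X φ q) (sr 0) := by
          rw [← range_P hφ hqq]
          exact ⟨s, rfl⟩
        exact Subgroup.mem_centralizer_iff.1 (h5 h6) u rfl
    · rw [H.odd z hz hev u hu hc]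
      exact one_mem _
  · -- the representatives
    have hF2 : (2 : Fq φ) ≠ 0 := by
      intro h
      apply h2K
      have h1 := congrArg (Fq φ).subtype h
      rw [map_ofNat, map_zero] at h1
      exact h1
    have key : ∀ (v : CoxeterMatrix.F₄.Group) (k : ↥(twistedE6 K q)), Rp CS (rgd CS hφ hqq p).nsys v k →
        rep CS isCartan v (sr 0) = sr 0 → k ∈ NQ (P hφ hqq 0) := by
      intro v k hk hv
      obtain ⟨c1, hc1, hc1', h1⟩ := act_long (cs := CS) hφ hqq p hk hrr sr_long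
      obtain ⟨c2, hc2, hc2', h2⟩ := act_long (cs := CS) hφ hqq p hk neg_sr_root neg_sr_long
      obtain ⟨η, hη, h3⟩ := P_lo hφ hqq
      have hη0 : φ η = η := by
        rcases hη with rfl | rfl
        · exact map_one φ
        · rw [map_neg, map_one]
      refine NQ.scal (F := Fq φ) hF2 (P_injective hφ hqq h2K) (a := ⟨c1, hc1'⟩) (b := ⟨c2, hc2'⟩)
        (fun h => hc1 (congrArg Subtype.val h)) (fun r => ?_) fun r => ?_
      · have hr2 : φ (r : K) = r := r.2
        rw [P_up hφ hqq, P_up hφ hqq, h1 _ hr2, hv]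
        rfl
      · have hr2 : φ (r : K) = r := r.2
        rw [h3, h3, h2 _ (by rw [map_mul, hη0, hr2]), map_neg, hv]
        congr 1
        show c2 * (η * (r : K)) = η * (c2 * (r : K))
        ring
    intro v k hk hc
    rcases rep_r hφ hqq p hr hrr H hk hc with h1 | h1
    · exact key v k hk h1
    · have h2 := key (CoxeterMatrix.F₄.toCoxeterSystem.simple 0 * v) (nn hφ 0 * k) ((rp_simple CS (rgd CS hφ hqq p).nsys 0).mul hk) (by
        rw [rep_mul_apply, h1, map_neg, rep_simple_sr, neg_neg])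
      have h3 : nn hφ 0 ∈ NQ (P hφ hqq 0) := by
        rw [← P_wS hφ hqq 0]
        exact NQ.range _ ⟨_, rfl⟩
      have h4 := mul_mem (inv_mem h3) h2
      rwa [inv_mul_cancel_left] at h4

end Cfsg.Agent.H482.KKL.TwE
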