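import Cfsg.Agent.Nodes.RGDTwActE6
import Cfsg.Agent.ChevalleyStructure.HMatDiagAll

/-!
# Traces of the involutions of `E₆(q)`, `q` odd, on the adjoint module (S4546, X2b)

* `trace_hG` : the trace of `h_r(-1)` is `-2`;
* `trace_hI` : the trace of `h_r(-1) h_s(-1)` for the fundamental roots of the relative root `3` is `14`.
-/

set_option autoImplicit false
set_option linter.unusedSectionVars false
set_option maxHeartbeats 400000

namespace Cfsg.Agent.H482.KKL.TwE

open Cfsg.Agent.Nodes.RGDTwGen Cfsg.Agent.Nodes.RGDChev Cfsg.Agent.Nodes.RGDFold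
  Cfsg.Agent.Nodes.RGDFoldSL Cfsg.Agent.Nodes.RGDTwE6 Cfsg.Agent.Nodes.RGDTwTab Cfsg.Agent.Nodes.RGDTwCoordE6
  Cfsg.Agent.Nodes.RGDTwCoord Cfsg.Agent.Nodes.RGDTwComE6 Cfsg.Agent.Nodes.RGDTwActE6
open Cfsg.Lie Cfsg.Agent.ChevalleyStructure Cfsg.Agent.ChevalleyStructure.Elts

universe u

/-- the number of even values minus the number of odd values -/
def cnt (f : ℕ → ℤ) : ℕ → ℤ
  | 0 => 0
  | n + 1 => cnt f n + if f n % 2 = 0 then 1 else -1

theorem sum_cnt {F : Type u} [Field F] (f : ℕ → ℤ) (n : ℕ) :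
    ∑ s : Fin n, (-1 : F) ^ f s = ((cnt f n : ℤ) : F) := by
  induction n with
  | zero => rw [Finset.univ_eq_empty, Finset.sum_empty, cnt, Int.cast_zero]
  | succ n ih =>
    rw [Fin.sum_univ_castSucc, cnt, Int.cast_add]
    congr 1
    show (-1 : F) ^ f n = _
    split_ifs with h
    · rw [Even.neg_one_zpow (Int.even_iff.2 h), Int.cast_one]
    · rw [Odd.neg_one_zpow (Int.odd_iff.2 (by omega)), Int.cast_neg, Int.cast_one]

set_option maxRecDepth 20000 in
theorem tab_cnt1 : ∀ r < 72, cnt (HMatDiagAll.expo chevE6 r) 72 = -8 := by decide +kernel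

set_option maxRecDepth 20000 in
theorem tab_cnt2 : cnt (fun s => HMatDiagAll.expo chevE6 (chevE6.simple 0) s +
    HMatDiagAll.expo chevE6 (chevE6.simple 5) s) 72 = 8 := by decide +kernel

theorem trace_diag {F : Type u} [Field F] (f : ℕ → ℤ) :
    (Matrix.diagonal (Sum.elim (fun _ : Fin chevE6.rank => (1 : F)) (fun s : Fin chevE6.nroots => (-1 : F) ^ f s.val))).trace =
      6 + ((cnt f 72 : ℤ) : F) := by
  rw [Matrix.trace_diagonal, Fintype.sum_sum_type]
  congr 1
  · simp only [Sum.elim_inl]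
    rw [Finset.sum_const, Finset.card_univ, Fintype.card_fin]
    show (6 : ℕ) • (1 : F) = 6
    simp
  · simp only [Sum.elim_inr]
    exact sum_cnt f 72

/-- **The trace of `h_r(-1)`.** -/
theorem trace_hG {F : Type u} [Field F] {r : ℕ} (hr : r < chevE6.nroots) :
    ((hG hp.inList r (-1 : F) : GL chevE6.Idx F) : Matrix chevE6.Idx chevE6.Idx F).trace = -2 := by
  rw [coe_hG, HMatDiagAll.hMat_eq_diagonal hp.inList hr (neg_ne_zero.2 one_ne_zero), trace_diag,
    tab_cnt1 r hr]
  norm_num

theorem hG_sq {F : Type u} [Field F] {r : ℕ} (hr : r < chevE6.nroots) :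
    hG hp.inList r (-1 : F) * hG hp.inList r (-1 : F) = 1 := by
  apply Units.ext
  rw [Units.val_mul, coe_hG, HMatDiagAll.hMat_eq_diagonal hp.inList hr (neg_ne_zero.2 one_ne_zero),
    Matrix.diagonal_mul_diagonal, Units.val_one, ← Matrix.diagonal_one]
  congr 1
  funext i
  rcases i with i | i
  · simp
  · simp only [Sum.elim_inr]
    rw [← mul_zpow, neg_mul_neg, one_mul, one_zpow]

/-- some root is odd -/
theorem hG_ne_one {F : Type u} [Field F] (h2 : (2 : F) ≠ 0) {r : ℕ} (hr : r < chevE6.nroots) :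
    hG hp.inList r (-1 : F) ≠ 1 := by
  intro h
  have h1 : ((hG hp.inList r (-1 : F) : GL chevE6.Idx F) : Matrix chevE6.Idx chevE6.Idx F) = 1 := by
    rw [h]; rfl
  rw [coe_hG, HMatDiagAll.hMat_eq_diagonal hp.inList hr (neg_ne_zero.2 one_ne_zero), ← Matrix.diagonal_one] at h1
  have h3 := Matrix.diagonal_injective h1
  have h4 : ∀ s : Fin 72, (-1 : F) ^ HMatDiagAll.expo chevE6 r s = 1 := fun s => congrFun h3 (Sum.inr s)
  have h5 : ∀ s < 72, HMatDiagAll.expo chevE6 r s % 2 = 0 := by
    intro s hs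
    by_contra h6
    have h7 := h4 ⟨s, hs⟩
    rw [Odd.neg_one_zpow (Int.odd_iff.2 (by simp only; omega))] at h7
    apply h2
    linear_combination -h7
  have h6 : ∀ n ≤ 72, cnt (HMatDiagAll.expo chevE6 r) n = n := by
    intro n
    induction n with
    | zero => intro _; rfl
    | succ n ih =>
      intro hn
      rw [cnt, ih (by omega), if_pos (h5 n (by omega))]
      push_cast
      rfl
  have h7 := h6 72 le_rfl
  rw [tab_cnt1 r hr] at h7
  norm_num at h7

/-- **The trace of the involution of the short relative root `3`.** -/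
theorem trace_hI {F : Type u} [Field F] (φ : F →+* F) :
    ((hI hp φ (J 3) (-1 : F) : GL chevE6.Idx F) : Matrix chevE6.Idx chevE6.Idx F).trace = 14 := by
  have e : hI hp φ (J 3) (-1 : F) = hG hp.inList (chevE6.simple 0) (-1) *
      (hG hp.inList (chevE6.simple 5) (φ (-1)) * 1) := rfl
  rw [e, mul_one, map_neg, map_one, Units.val_mul, coe_hG, coe_hG,
    HMatDiagAll.hMat_eq_diagonal hp.inList (by decide) (neg_ne_zero.2 one_ne_zero),
    HMatDiagAll.hMat_eq_diagonal hp.inList (by decide) (neg_ne_zero.2 one_ne_zero),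
    Matrix.diagonal_mul_diagonal]
  have e2 : (fun i => (Sum.elim (fun _ : Fin chevE6.rank => (1 : F)) (fun s : Fin chevE6.nroots =>
      (-1 : F) ^ HMatDiagAll.expo chevE6 (chevE6.simple 0) s.val) i : F) *
      Sum.elim (fun _ : Fin chevE6.rank => (1 : F)) (fun s : Fin chevE6.nroots =>
      (-1 : F) ^ HMatDiagAll.expo chevE6 (chevE6.simple 5) s.val) i) =
      Sum.elim (fun _ : Fin chevE6.rank => (1 : F)) (fun s : Fin chevE6.nroots =>
        (-1 : F) ^ (fun s => HMatDiagAll.expo chevE6 (chevE6.simple 0) s +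
          HMatDiagAll.expo chevE6 (chevE6.simple 5) s) s.val) := by
    funext i
    rcases i with i | i
    · simp
    · simp only [Sum.elim_inr]
      rw [zpow_add₀ (neg_ne_zero.2 one_ne_zero)]
  have h3 := trace_diag (F := F) (fun s => HMatDiagAll.expo chevE6 (chevE6.simple 0) s +
    HMatDiagAll.expo chevE6 (chevE6.simple 5) s)
  rw [tab_cnt2] at h3
  rw [e2]
  refine h3.trans ?_
  norm_num

/-- the trace is a class function -/
theorem trace_conj {F : Type u} [Field F] (x g : GL chevE6.Idx F) :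
    ((x * g * x⁻¹ : GL chevE6.Idx F) : Matrix chevE6.Idx chevE6.Idx F).trace =
      ((g : GL chevE6.Idx F) : Matrix chevE6.Idx chevE6.Idx F).trace := by
  rw [Units.val_mul, Matrix.trace_mul_comm, ← Units.val_mul]
  congr 2
  group

end Cfsg.Agent.H482.KKL.TwE
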