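import Cfsg.Agent.H557.LrTwE
import Cfsg.Agent.H482.KKL.TwTr

/-!
# `²E₆(q)`, `q` odd: the two classes of involutions (S4546, X2b)

`inv_cases` : every involution of `²E₆(q)` is conjugate to `zn 0` or to `zn 3`;
`isConj_of_cl` : an involution which is conjugate to some `h_s(-1)` in `E₆(q²)` is conjugate to `zn 0` in `²E₆(q)`.
-/

set_option autoImplicit false
set_option linter.unusedSectionVars false
set_option maxHeartbeats 400000

namespace Cfsg.Agent.H482.KKL.TwE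

open CoxeterSystem Cfsg.Agent.ChevalleyStructure.CoxeterGeom Cfsg.Agent.Tits.Roots Cfsg.Agent.Tits.Core
  Cfsg.Agent.Tits.RootComb Cfsg.Agent.Nodes.Comb Cfsg.Agent.Nodes.Reps Cfsg.Agent.Nodes.BNOf
  Cfsg.Agent.Nodes.RGDTwGen Cfsg.Agent.Nodes.RGDChev Cfsg.Agent.Nodes.RGDFold
  Cfsg.Agent.Nodes.RGDFoldSL Cfsg.Agent.Nodes.RGDTwE6 Cfsg.Agent.Nodes.RGDTwTab Cfsg.Agent.Nodes.RGDTwCoordE6
  Cfsg.Agent.Nodes.RGDTwCoord Cfsg.Agent.Nodes.RGDTwComE6 Cfsg.Agent.Nodes.RGDTwActE6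
  Cfsg.Agent.Nodes.RGDLib Cfsg.Agent.Nodes.Bruhat
open Cfsg.Lie Cfsg.Agent.ChevalleyStructure Cfsg.Agent.ChevalleyStructure.Elts
open Cfsg.Agent.KFacts.TwESix.Comb (bf rts mem_rts bf_rep rho rho_root bf_rho pairing_eq)
open Cfsg.Agent.UGT.U2.FOne Cfsg.Agent.UGT.U2.FOne.TwESix
open Cfsg.Agent.H557.LrAbs Cfsg.Agent.H557.LrSgn Cfsg.Agent.H557.LrTor Cfsg.Agent.H557.LrOrb Cfsg.Agent.H557.LrIso
  Cfsg.Agent.H557.LrNF Cfsg.Agent.H557.LrTwE
open Cfsg.Agent.H557.LrChev (csz csz_apply csz_eq_zero_iff)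
open Cfsg.Agent.GenExc (csv)
open scoped commutatorElement MatrixGroups

/-- the orbit list -/
def Lo2 : List (ℕ × ℕ) := [(7, 1), (12, 2), (15, 2), (5, 0), (8, 3), (10, 1), (11, 3), (13, 0), (14, 1), (6, 2), (9, 0),
  (3, 1), (1, 0)]

theorem okLo2 : okL 4 rm (2 ^ 2 ^ 4 - 1) 21 Lo2 = true := by decide +kernel

theorem bits_two : bits 4 2 = csz A [0] := bits_eq_csz (by decide +kernel)

theorem bits_four : bits 4 4 = csz A [3] := bits_eq_csz (by decide +kernel)

variable {K : Type} [Field K] [Fintype K] {q : ℕ} {φ : K →+* K} (hφ : ∀ x, φ x = x ^ q)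
  (hqq : ∀ t : K, (t ^ q) ^ q = t) {W : Type*} [Group W] {cs : CoxeterSystem CoxeterMatrix.F₄ W}
  (p : ℕ) [Fact p.Prime] [CharP K p]

/-- the conclusion -/
def Con (t : ↥(twistedE6 K q)) : Prop := t = 1 ∨ IsConj (zn hφ hqq 0) t ∨ IsConj (zn hφ hqq 3) t

theorem Con.of_conj {t k : ↥(twistedE6 K q)} (h : Con hφ hqq (k * t * k⁻¹)) : Con hφ hqq t := by
  have hc : IsConj (k * t * k⁻¹) t := by
    rw [isConj_comm, isConj_iff]
    exact ⟨k, rfl⟩
  rcases h with h | h | h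
  · left
    rwa [mul_inv_eq_one, mul_eq_left] at h
  · exact Or.inr (Or.inl (h.trans hc))
  · exact Or.inr (Or.inr (h.trans hc))

include p in
theorem torus_cases (h2K : (2 : K) ≠ 0) (hZ : Subgroup.center ↥(twistedE6 K q) = ⊥)
    (cs : CoxeterSystem CoxeterMatrix.F₄ W) {t : ↥(twistedE6 K q)}
    (ht : t ∈ T K q) (htt : t * t = 1) : Con hφ hqq t := by
  have R := rgd cs hφ hqq p
  have hG1 := G1_eq_top (cs := cs) hφ hqq
  obtain ⟨n, hn, hs⟩ := exists_sgn6 (cs := cs) hφ hqq p h2K hZ ht htt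
  have hP : ∀ t : ↥(twistedE6 K q), SgnEl cs isCartan (T K q) (X φ q) (bits 4 n) t → Con hφ hqq t := by
    refine orbit_all (l := 4) (rm := rm)
      (P := fun n => ∀ t : ↥(twistedE6 K q), SgnEl cs isCartan (T K q) (X φ q) (bits 4 n) t → Con hφ hqq t)
      (fun j n hP t ht => ?_) okLo2 (fun m hm => ?_) hn
    · have h2 := ht.conj R (rp_simple cs R.nsys j)
      rw [bits_step cs isCartan okR] at h2
      exact (hP _ h2).of_conj hφ hqq
    · have hc : ∀ m : ℕ, (21 : ℕ).testBit m = true → m = 0 ∨ m = 2 ∨ m = 4 := by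
        intro m hm
        by_cases h : m < 5
        · revert hm
          revert m
          decide +kernel
        · exfalso
          rw [Nat.testBit_lt_two_pow (lt_of_lt_of_le (by norm_num : (21 : ℕ) < 2 ^ 5)
            (Nat.pow_le_pow_right (by norm_num) (not_lt.1 h)))] at hm
          exact absurd hm (by decide)
      intro t ht
      rcases hc m hm with rfl | rfl | rfl
      · left
        refine SgnEl.unique hG1 hZ ht ⟨one_mem _, fun a _ _ u _ => by rw [one_mul, mul_one], fun a _ h2 => ?_⟩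
        exact absurd (by rw [bits_zero]; rfl) h2
      · right; left
        rw [bits_two] at ht
        rw [SgnEl.unique hG1 hZ ht (sgn_zn (cs := cs) hφ hqq 0)]
      · right; right
        rw [bits_four] at ht
        rw [SgnEl.unique hG1 hZ ht (sgn_zn (cs := cs) hφ hqq 3)]
  exact hP t hs

include p in
/-- **The classes of involutions of `²E₆(q)`.** -/
theorem inv_cases [IsSimpleGroup ↥(twistedE6 K q)] (hp2 : Odd p) (hq2 : 2 ≤ q) (hK : Fintype.card K = q ^ 2)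
    (hZ : Subgroup.center ↥(twistedE6 K q) = ⊥) {t : ↥(twistedE6 K q)} (htt : t * t = 1) : Con hφ hqq t := by
  by_cases ht1 : t = 1
  · exact Or.inl ht1
  have hp2' : p ≠ 2 := by
    rintro rfl
    exact absurd hp2 (by decide)
  have h2K : (2 : K) ≠ 0 := (odd_card (F := K) hp2).2
  obtain ⟨cs, -⟩ : ∃ cs, cs = CoxeterMatrix.F₄.toCoxeterSystem := ⟨_, rfl⟩
  have hW : Finite CoxeterMatrix.F₄.Group := Cfsg.Agent.KFacts.TwESix.Comb.finiteW cs
  obtain ⟨k, φ', σ, J, g, N⟩ := exists_nf_inner hp2' (rgd cs hφ hqq p) (G1_eq_top (cs := cs) hφ hqq) hZ htt ht1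
  have hJ := J_empty hφ hqq p hq2 hK N
  have hσ := sigma_id hφ hqq p hq2 hK N
  have hw : wJ cs (∅ : Set (Fin 4)) = 1 := by
    have F : Cfsg.Agent.Tits.OppRes.Cox cs := inferInstance
    have h := F.wJ_mem (∅ : Set (Fin 4))
    unfold WJ at h
    rwa [Set.image_empty, Subgroup.closure_empty, Subgroup.mem_bot] at h
  have hT : k⁻¹ * t * k ∈ T K q := by
    refine mem_T_of (rgd cs hφ hqq p) (GG_top φ hφ hqq) fun c hc => ?_
    have h1 := N.nx.xX_id hσ hc
    rw [hJ, hw, map_one, Module.End.one_apply] at h1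
    exact h1
  have h3 := torus_cases hφ hqq p h2K hZ cs hT (by
    have : k⁻¹ * t * k * (k⁻¹ * t * k) = k⁻¹ * (t * t) * k := by group
    rw [this, htt, mul_one, inv_mul_cancel])
  have h4 : k⁻¹ * t * k = k⁻¹ * t * k⁻¹⁻¹ := by rw [inv_inv]
  rw [h4] at h3
  exact h3.of_conj hφ hqq

/-- conjugate to some `h_s(-1)` in `E₆(q²)` -/
def ClT (t : ↥(twistedE6 K q)) : Prop := ∃ s < chevE6.nroots, ∃ x ∈ chevE6.group K,
  (t : GL chevE6.Idx K) = x * hG hp.inList s (-1) * x⁻¹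

theorem ClT.trace {t : ↥(twistedE6 K q)} (h : ClT t) :
    ((t : GL chevE6.Idx K) : Matrix chevE6.Idx chevE6.Idx K).trace = -2 := by
  obtain ⟨s, hs, x, -, e⟩ := h
  rw [e, trace_conj, trace_hG hs]

theorem ClT.sq {t : ↥(twistedE6 K q)} (h : ClT t) : t * t = 1 := by
  obtain ⟨s, hs, x, -, e⟩ := h
  apply Subtype.ext
  rw [Subgroup.coe_mul, e, Subgroup.coe_one]
  calc x * hG hp.inList s (-1) * x⁻¹ * (x * hG hp.inList s (-1) * x⁻¹)
      = x * (hG hp.inList s (-1) * hG hp.inList s (-1)) * x⁻¹ := by group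
    _ = 1 := by rw [hG_sq hs]; group

theorem ClT.ne_one (h2K : (2 : K) ≠ 0) {t : ↥(twistedE6 K q)} (h : ClT t) : t ≠ 1 := by
  obtain ⟨s, hs, x, -, e⟩ := h
  rintro rfl
  apply hG_ne_one h2K hs
  rw [Subgroup.coe_one] at e
  calc hG hp.inList s (-1 : K) = x⁻¹ * (x * hG hp.inList s (-1) * x⁻¹) * x := by group
    _ = 1 := by rw [← e]; group

include p in
/-- **The class of the classical involutions.** -/
theorem isConj_of_cl [IsSimpleGroup ↥(twistedE6 K q)] (hp2 : Odd p) (hq2 : 2 ≤ q) (hK : Fintype.card K = q ^ 2)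
    (hZ : Subgroup.center ↥(twistedE6 K q) = ⊥) {t : ↥(twistedE6 K q)} (ht : ClT t) : IsConj (zn hφ hqq 0) t := by
  have h2K : (2 : K) ≠ 0 := (odd_card (F := K) hp2).2
  rcases inv_cases hφ hqq p hp2 hq2 hK hZ ht.sq with h | h | h
  · exact absurd h (ht.ne_one h2K)
  · exact h
  · exfalso
    obtain ⟨c, hc⟩ := isConj_iff.1 h
    have h1 := ht.trace
    rw [← hc, Subgroup.coe_mul, Subgroup.coe_mul, Subgroup.coe_inv, trace_conj, zn_eq,
      (coe_hh hφ hqq (neg_ne_zero.2 one_ne_zero) (Or.inl (by decide))).1, trace_hI] at h1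
    have h3 : (2 : K) * (2 * (2 * 2)) = 0 := by linear_combination h1
    rcases mul_eq_zero.1 h3 with h | h
    · exact h2K h
    · rcases mul_eq_zero.1 h with h | h
      · exact h2K h
      · rcases mul_eq_zero.1 h with h | h <;> exact h2K h

end Cfsg.Agent.H482.KKL.TwE
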