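import Cfsg.Agent.H482.KKL.TwCent
import Cfsg.Agent.H482.KKL.TwConj
import Cfsg.Agent.H392.KKL.Hom

/-!
# `²E₆(q)`, `q` odd: classical involutions (S4546, X2b)

`exists_J_twE6` : the involutions of `²E₆(q)` which are conjugate to some `h_s(-1)` in `E₆(q²)` are classical
involutions (`CI`), with an equivariant choice of the fundamental subgroup `J t ≅ SL₂(q)`.
-/

set_option autoImplicit false
set_option linter.unusedSectionVars false
set_option maxHeartbeats 400000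

namespace Cfsg.Agent.H482.KKL.TwE

open CoxeterSystem Cfsg.Agent.ChevalleyStructure.CoxeterGeom Cfsg.Agent.Tits.Roots
  Cfsg.Agent.Nodes.RGDFold
  Cfsg.Agent.Nodes.RGDFoldSL Cfsg.Agent.Nodes.RGDTwE6 Cfsg.Agent.Nodes.RGDTwTab Cfsg.Agent.Nodes.RGDTwCoordE6
  Cfsg.Agent.Nodes.RGDTwCoord Cfsg.Agent.Nodes.RGDTwComE6 Cfsg.Agent.Nodes.RGDTwActE6
open Cfsg.Lie Cfsg.Agent.ChevalleyStructure Cfsg.Agent.ChevalleyStructure.Elts
open Cfsg.Agent.UGT.U2.FOne Cfsg.Agent.UGT.U2.FOne.TwESix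
open Cfsg.Agent.H613.KKL (CI)
open Cfsg.Agent.H392.KKL (Act ci_of_hom exists_J)
open scoped MatrixGroups

/-- the centralizer of `zn 0` acts through `GL₂` -/
theorem act_zn {K : Type} [Field K] [Fintype K] {q : ℕ} {φ : K →+* K} (hφ : ∀ x, φ x = x ^ q)
    (hqq : ∀ t : K, (t ^ q) ^ q = t) (p : ℕ) [Fact p.Prime] [CharP K p] (h2K : (2 : K) ≠ 0) {c : ↥(twistedE6 K q)}
    (hc : c * P hφ hqq 0 (-1) = P hφ hqq 0 (-1) * c) : Act (P hφ hqq 0) c := by
  obtain ⟨g, hg⟩ := cent_act hφ hqq p h2K hc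
  exact ⟨g, fun s => (hg s).trans (congrArg (P hφ hqq 0) (Subtype.ext rfl))⟩

/-- **The fundamental subgroup of `²E₆(q)`.** -/
theorem ci_zn {K : Type} [Field K] [Fintype K] {q : ℕ} {φ : K →+* K} (hφ : ∀ x, φ x = x ^ q)
    (hqq : ∀ t : K, (t ^ q) ^ q = t) (p : ℕ) [Fact p.Prime] [CharP K p] (h2K : (2 : K) ≠ 0) :
    CI (zn hφ hqq 0) (P hφ hqq 0).range := by
  have hfin : Finite (Fq φ) := inferInstance
  have := Fintype.ofFinite (Fq φ)
  have hF2 : (2 : Fq φ) ≠ 0 := by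
    intro h
    apply h2K
    have h1 := congrArg (Fq φ).subtype h
    rw [map_ofNat, map_zero] at h1
    exact h1
  refine ci_of_hom (F := Fq φ) hF2 (P hφ hqq 0) ?_ fun c hc => act_zn hφ hqq p h2K hc
  intro h
  have h1 := P_injective hφ hqq h2K (h.trans (map_one _).symm)
  have h2 := congrArg (fun s : SL(2, Fq φ) => s.1 0 0) h1
  have h3 : (-1 : Fq φ) = 1 := h2
  apply hF2
  linear_combination -h3

/-- **X2b of S4546.** -/
theorem exists_J_twE6 {K : Type} [Field K] [Fintype K] {q : ℕ} (hqp : IsPrimePow q) (ho : Odd q)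
    (hK : Fintype.card K = q ^ 2) :
    ∃ J : ↥(twistedE6 K q) → Subgroup ↥(twistedE6 K q), (∀ t, ClT t → CI t (J t)) ∧
      ∀ y t g, y * g * y⁻¹ ∈ J (y * t * y⁻¹) ↔ g ∈ J t := by
  obtain ⟨p, hp⟩ := CharP.exists K
  have hprime : p.Prime := CharP.char_prime_of_ne_zero K (CharP.char_ne_zero_of_finite K p)
  have : Fact p.Prime := ⟨hprime⟩
  obtain ⟨φ, hφ, hqq⟩ := ChevalleyStructure.TwE6Basic.exists_frob hqp hK
  have hF : Odd (Fintype.card K) := by
    rw [hK]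
    exact ho.pow
  have hp2 : p ≠ 2 := by
    rintro rfl
    obtain ⟨n, -, hn⟩ := FiniteField.card K 2
    rw [hn] at hF
    exact absurd hF (Nat.not_odd_iff_even.2 (even_two.pow_of_ne_zero n.ne_zero))
  have hpo : Odd p := hprime.odd_of_ne_two hp2
  have h2K := (H557.LrIso.odd_card (F := K) hpo).2
  have hq2 : 2 ≤ q := hqp.two_le
  have hS := Cfsg.Agent.S1070.result hqp hK
  have hs : IsSimpleGroup ↥(Lie.twistedE6 K q) := hS.1
  have hZ : Subgroup.center ↥(Lie.twistedE6 K q) = ⊥ := by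
    rcases (inferInstance : (Subgroup.center ↥(Lie.twistedE6 K q)).Normal).eq_bot_or_eq_top with h1 | h1
    · exact h1
    · exfalso
      apply hS.2
      exact ⟨⟨fun a b => by
        have h2 : a ∈ Subgroup.center ↥(Lie.twistedE6 K q) := by rw [h1]; exact Subgroup.mem_top a
        exact (Subgroup.mem_center_iff.1 h2 b).symm⟩⟩
  obtain ⟨J, -, h1, h2⟩ := exists_J (ci_zn hφ hqq p h2K)
  exact ⟨J, fun t ht => h1 t (isConj_of_cl hφ hqq p hpo hq2 hK hZ ht), h2⟩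

end Cfsg.Agent.H482.KKL.TwE
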